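import Mathlib
import Cfsg.Agent.Lib.Unitary.Basic

/-!
Fields of order `(2^n)^2` with their norm and trace to the subfield of order `2^n`.
-/

set_option autoImplicit false
set_option linter.unusedSectionVars false
set_option linter.style.haveILetI false

namespace Cfsg.Agent.Lib.U3Sylow

open Cfsg.Agent.Lib.Unitary

variable {F : Type*} [Field F] [Fintype F] {n : ℕ}

theorem charP_two (hF : Fintype.card F = (2 ^ n) ^ 2) : CharP F 2 := by
  have h1 : n ≠ 0 := fun h => by
    have := Fintype.one_lt_card (α := F)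
    rw [hF, h] at this
    simp at this
  have h : ringChar F = 2 := FiniteField.even_card_iff_char_two.2 (by
    rw [hF, ← pow_mul, ← Nat.even_iff]
    exact Nat.even_pow.2 ⟨even_two, Nat.mul_ne_zero h1 two_ne_zero⟩)
  exact h ▸ ringChar.charP F

theorem pos_n (hF : Fintype.card F = (2 ^ n) ^ 2) : 0 < n := by
  have := one_lt_q hF
  exact Nat.pos_of_ne_zero fun h => by rw [h] at this; simp at this

/-- `b + b^q = 0` says that `b` lies in the subfield. -/
theorem trace_zero_iff (hF : Fintype.card F = (2 ^ n) ^ 2) {b : F} :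
    b + b ^ 2 ^ n = 0 ↔ b ^ 2 ^ n = b := by
  haveI := charP_two hF
  rw [CharTwo.add_eq_zero, eq_comm]

/-- Elements of the subfield are squares of elements of the subfield. -/
theorem exists_sq_fixed (hF : Fintype.card F = (2 ^ n) ^ 2) {x : F} (hx : x ^ 2 ^ n = x) :
    ∃ y : F, y ^ 2 ^ n = y ∧ y * y = x := by
  obtain ⟨m, rfl⟩ : ∃ m, n = m + 1 := ⟨n - 1, by have := pos_n hF; omega⟩
  refine ⟨x ^ 2 ^ m, ?_, ?_⟩
  · rw [← pow_mul, mul_comm, pow_mul, hx]
  · rw [← sq, ← pow_mul, ← pow_succ, hx]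

theorem norm_fixed (hF : Fintype.card F = (2 ^ n) ^ 2) (a : F) :
    (a * a ^ 2 ^ n) ^ 2 ^ n = a * a ^ 2 ^ n := by
  rw [mul_pow, pow_q_q hF, mul_comm]

/-- The line through `a ≠ 0` over the subfield. -/
theorem fixed_div_iff (hF : Fintype.card F = (2 ^ n) ^ 2) {a c : F} (ha : a ≠ 0) :
    a ^ 2 ^ n * c + c ^ 2 ^ n * a = 0 ↔ (c / a) ^ 2 ^ n = c / a := by
  haveI := charP_two hF
  rw [CharTwo.add_eq_zero, div_pow, div_eq_div_iff (pow_ne_zero _ ha) ha]
  constructor <;> intro h
  · rw [← h]; ring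
  · rw [h]; ring

theorem exists_not_fixed (hF : Fintype.card F = (2 ^ n) ^ 2) : ∃ c : F, c ^ 2 ^ n ≠ c := by
  obtain ⟨c, hc⟩ := trace_surj hF (y := 1) (one_pow _)
  refine ⟨c, fun h => ?_⟩
  haveI := charP_two hF
  rw [h, CharTwo.add_self_eq_zero] at hc
  exact zero_ne_one hc

/-- An additive map fixing `1` which respects norm and trace through `B` is a field
automorphism. -/
theorem semilinear (hF : Fintype.card F = (2 ^ n) ^ 2) (A B : F →+ F) (h1 : A 1 = 1)
    (hN : ∀ a, B (a * a ^ 2 ^ n) = A a * A a ^ 2 ^ n) :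
    ∃ i < 2 * n, ∀ a, A a = a ^ 2 ^ i := by
  classical
  haveI := charP_two hF
  haveI : Fact (Nat.Prime 2) := ⟨Nat.prime_two⟩
  set q := 2 ^ n with hq
  have hB1 : B 1 = 1 := by simpa [h1] using hN 1
  have hTc : ∀ a c : F, B (a ^ q * c + c ^ q * a) = A a ^ q * A c + A c ^ q * A a := by
    intro a c
    have e1 : (a + c) * (a + c) ^ q = a * a ^ q + c * c ^ q + (a ^ q * c + c ^ q * a) := by
      rw [add_pow_q hF]; ring
    have h := hN (a + c)
    rw [e1] at h
    simp only [map_add, hN] at h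
    rw [add_pow_q hF] at h
    rw [map_add]
    linear_combination h
  have hT : ∀ c : F, B (c + c ^ q) = A c + A c ^ q := fun c => by simpa [h1] using hTc 1 c
  have hfix : ∀ x : F, x ^ q = x → A x ^ q = A x := by
    intro x hx
    have := hT x
    rw [hx, CharTwo.add_self_eq_zero, map_zero] at this
    exact ((trace_zero_iff hF).1 this.symm)
  have hlin : ∀ x : F, x ^ q = x → ∀ t : F, t ^ q = t → B (x * t) = A x * B t := by
    intro x hx t ht
    obtain ⟨c, rfl⟩ := trace_surj hF ht
    have h := hTc x c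
    rw [hx, hfix x hx] at h
    rw [hT, show x * (c + c ^ q) = x * c + c ^ q * x by ring, h]
    ring
  have hBA : ∀ x : F, x ^ q = x → B x = A x := fun x hx => by
    have := hlin x hx 1 (one_pow q)
    rwa [mul_one, hB1, mul_one] at this
  have hmul : ∀ x y : F, x ^ q = x → y ^ q = y → A (x * y) = A x * A y := fun x y hx hy => by
    rw [← hBA (x * y) (by rw [mul_pow, hx, hy]), hlin x hx y hy, hBA y hy]
  -- the restriction to the subfield is a Frobenius power
  let K : Subfield F := RingHom.eqLocusField (conj hF) (RingHom.id F)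
  have hK : ∀ x, x ∈ K ↔ x ^ q = x := fun x => Iff.rfl
  letI : Fintype K := Fintype.ofFinite K
  letI : Algebra (ZMod 2) K := ZMod.algebra K 2
  let f : K →+* K :=
    { toFun := fun x => ⟨A x, (hK _).2 (hfix _ ((hK _).1 x.2))⟩
      map_one' := Subtype.ext h1
      map_mul' := fun x y => Subtype.ext (hmul _ _ ((hK _).1 x.2) ((hK _).1 y.2))
      map_zero' := Subtype.ext (map_zero A)
      map_add' := fun x y => Subtype.ext (map_add A _ _) }
  let f' : K →ₐ[ZMod 2] K :=
    { f with
      commutes' := fun r =>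
        RingHom.congr_fun (RingHom.ext_zmod (f.comp (algebraMap (ZMod 2) K)) (algebraMap (ZMod 2) K)) r }
  obtain ⟨j, hj⟩ := (FiniteField.bijective_frobeniusAlgHom_pow (ZMod 2) K).2 f'
  have hfrob : ∀ (k : ℕ) (x : K), ((FiniteField.frobeniusAlgHom (ZMod 2) K ^ k) x) = x ^ 2 ^ k := by
    intro k x
    induction k generalizing x with
    | zero => simp
    | succ k ih =>
      rw [pow_succ', AlgHom.mul_apply, ih, FiniteField.frobeniusAlgHom_apply, ZMod.card, ← pow_mul,
        ← pow_succ]
  have hAK : ∀ x : F, x ^ q = x → A x = x ^ 2 ^ (j : ℕ) := by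
    intro x hx
    have h := hfrob j ⟨x, (hK x).2 hx⟩
    rw [show FiniteField.frobeniusAlgHom (ZMod 2) K ^ (j : ℕ) = f' from hj] at h
    exact congrArg Subtype.val h
  have hjn : (j : ℕ) < n := by
    have hc : Nat.card K = 2 ^ n := by
      refine Eq.trans ?_ (card_trace_zero hF)
      exact Nat.card_congr (Equiv.subtypeEquivRight fun x => by
        rw [trace_zero_iff hF]; exact hK x)
    have h2 := Module.card_eq_pow_finrank (K := ZMod 2) (V := K)
    rw [ZMod.card, ← Nat.card_eq_fintype_card, hc] at h2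
    have := Nat.pow_right_injective (le_refl 2) h2
    omega
  have hnorm : ∀ a, A a * A a ^ q = (a * a ^ q) ^ 2 ^ (j : ℕ) := fun a => by
    rw [← hN, hBA _ (norm_fixed hF a), hAK _ (norm_fixed hF a)]
  have htr : ∀ a, A a + A a ^ q = (a + a ^ q) ^ 2 ^ (j : ℕ) := fun a => by
    have hf : (a + a ^ q) ^ q = a + a ^ q := by rw [add_pow_q hF, pow_q_q hF, add_comm]
    rw [← hT, hBA _ hf, hAK _ hf]
  have hor : ∀ a, A a = a ^ 2 ^ (j : ℕ) ∨ A a = (a ^ q) ^ 2 ^ (j : ℕ) := by
    intro a
    have e : (A a - a ^ 2 ^ (j : ℕ)) * (A a - (a ^ q) ^ 2 ^ (j : ℕ)) = 0 := by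
      have h1 := htr a
      have h2 := hnorm a
      rw [add_pow_char_pow] at h1
      rw [mul_pow] at h2
      linear_combination A a * h1 - h2
    rcases mul_eq_zero.1 e with h | h
    · exact Or.inl (sub_eq_zero.1 h)
    · exact Or.inr (sub_eq_zero.1 h)
  obtain ⟨c, hc⟩ := exists_not_fixed hF
  have hcj : c ^ 2 ^ (j : ℕ) ≠ (c ^ q) ^ 2 ^ (j : ℕ) := fun h =>
    hc ((iterateFrobenius F 2 (j : ℕ)).injective
      (by simp only [iterateFrobenius_def]; exact h.symm))
  rcases hor c with hc1 | hc1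
  · refine ⟨j, by omega, fun a => (hor a).elim id fun ha => ?_⟩
    rcases hor (a + c) with h | h <;> rw [map_add, ha, hc1] at h
    · rw [add_pow_char_pow, add_left_inj] at h
      exact ha.trans h
    · rw [add_pow_q hF, add_pow_char_pow, add_right_inj] at h
      exact absurd h hcj
  · refine ⟨n + j, by omega, fun a => ?_⟩
    rw [pow_add, pow_mul]
    refine (hor a).elim (fun ha => ?_) id
    rcases hor (a + c) with h | h <;> rw [map_add, ha, hc1] at h
    · rw [add_pow_char_pow, add_right_inj] at h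
      exact absurd h.symm hcj
    · rw [add_pow_q hF, add_pow_char_pow, add_left_inj] at h
      exact ha.trans h

end Cfsg.Agent.Lib.U3Sylow
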