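import Mathlib
import Cfsg.Prelude.Def_Classical
import Cfsg.Agent.Lib.U3Sylow.Field
import Cfsg.Agent.Lib.Unitary.Order
import Cfsg.Agent.Lib.Unitary.Transvection

/-!
The Sylow `2`-subgroup of `SU(3, 2^n)` and of `PSU(3, 2^n)` in coordinates: pairs `(a, b)` with
`b + b^q = a * a^q` and multiplication `(a, b) (c, d) = (a + c, b + d + a^q c)`.
-/

set_option autoImplicit false
set_option linter.unusedSectionVars false
set_option linter.style.haveILetI false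

namespace Cfsg.Agent.Lib.U3Sylow

open Matrix Cfsg.Agent.Lib.Unitary

variable {F : Type*} [Field F] [Fintype F] {n : ℕ}

/-- The coordinates of an element. -/
abbrev Pairs (F : Type*) [Field F] (q : ℕ) : Type _ := {p : F × F // p.2 + p.2 ^ q = p.1 * p.1 ^ q}

theorem exists_pair (hF : Fintype.card F = (2 ^ n) ^ 2) (a : F) :
    ∃ p : Pairs F (2 ^ n), p.1.1 = a := by
  obtain ⟨b, hb⟩ := trace_surj hF (norm_fixed hF a)
  exact ⟨⟨(a, b), hb⟩, rfl⟩

theorem card_pairs (hF : Fintype.card F = (2 ^ n) ^ 2) :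
    Nat.card (Pairs F (2 ^ n)) = (2 ^ n) ^ 3 := by
  classical
  have hfib : ∀ a : F, Nat.card {b : F // b + b ^ 2 ^ n = a * a ^ 2 ^ n} = 2 ^ n := by
    intro a
    obtain ⟨p, hp⟩ := exists_pair hF a
    have hp2 := p.2
    rw [hp] at hp2
    refine Eq.trans ?_ (card_trace_zero hF)
    exact Nat.card_congr
      { toFun := fun b => ⟨b.1 - p.1.2, by
          rw [sub_pow_q hF]; linear_combination b.2 - hp2⟩
        invFun := fun c => ⟨c.1 + p.1.2, by
          rw [add_pow_q hF]; linear_combination c.2 + hp2⟩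
        left_inv := fun b => Subtype.ext (sub_add_cancel _ _)
        right_inv := fun c => Subtype.ext (add_sub_cancel_right _ _) }
  have e : Pairs F (2 ^ n) ≃ Σ a : F, {b : F // b + b ^ 2 ^ n = a * a ^ 2 ^ n} :=
    { toFun := fun p => ⟨p.1.1, p.1.2, p.2⟩
      invFun := fun s => ⟨(s.1, s.2.1), s.2.2⟩
      left_inv := fun _ => rfl
      right_inv := fun _ => rfl }
  rw [Nat.card_congr e, Nat.card_sigma, Finset.sum_congr rfl fun a _ => hfib a, Finset.sum_const,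
    Finset.card_univ, hF, smul_eq_mul]
  ring

/-- Coordinates on a group. -/
structure Coords (F : Type*) [Field F] (q : ℕ) (S : Type*) [Group S] where
  equiv : S ≃ Pairs F q
  mul_fst : ∀ s t : S, (equiv (s * t)).1.1 = (equiv s).1.1 + (equiv t).1.1
  mul_snd : ∀ s t : S,
    (equiv (s * t)).1.2 = (equiv s).1.2 + (equiv t).1.2 + (equiv s).1.1 ^ q * (equiv t).1.1

/-- Coordinates move along isomorphisms. -/
def Coords.trans {q : ℕ} {S T : Type*} [Group S] [Group T] (c : Coords F q S) (e : T ≃* S) :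
    Coords F q T where
  equiv := e.toEquiv.trans c.equiv
  mul_fst s t := by simpa using c.mul_fst (e s) (e t)
  mul_snd s t := by simpa using c.mul_snd (e s) (e t)

/-- The change of basis to a hyperbolic basis. -/
def tMat (x : F) : Matrix (Fin 3) (Fin 3) F := !![1, 0, x; 1, 0, x + 1; 0, 1, 0]

/-- Its inverse. -/
def tInv (x : F) : Matrix (Fin 3) (Fin 3) F := !![1 + x, x, 0; 0, 0, 1; 1, 1, 0]

/-- The unitriangular matrix of a pair. -/
def mMat (q : ℕ) (a b : F) : Matrix (Fin 3) (Fin 3) F := !![1, a ^ q, b; 0, 1, a; 0, 0, 1]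

/-- The form in the hyperbolic basis. -/
def hyp (q : ℕ) (u v : Fin 3 → F) : F := u 0 * v 2 ^ q + u 1 * v 1 ^ q + u 2 * v 0 ^ q

theorem two_eq_zero (hF : Fintype.card F = (2 ^ n) ^ 2) : (2 : F) = 0 := by
  haveI := charP_two hF
  exact CharTwo.two_eq_zero

theorem mMat_mul (hF : Fintype.card F = (2 ^ n) ^ 2) (a b c d : F) :
    mMat (2 ^ n) a b * mMat (2 ^ n) c d = mMat (2 ^ n) (a + c) (b + d + a ^ 2 ^ n * c) := by
  ext i j
  fin_cases i <;> fin_cases j <;>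
    simp [mMat, Matrix.mul_apply, Fin.sum_univ_three, add_pow_q hF] <;> ring

theorem tMat_mul_tInv (hF : Fintype.card F = (2 ^ n) ^ 2) (x : F) : tMat x * tInv x = 1 := by
  have h2 := two_eq_zero hF
  ext i j
  fin_cases i <;> fin_cases j <;>
    simp [tMat, tInv, Matrix.mul_apply, Fin.sum_univ_three] <;>
    first
      | ring1
      | linear_combination x * h2
      | linear_combination (x + 1) * h2

theorem tInv_mul_tMat (hF : Fintype.card F = (2 ^ n) ^ 2) (x : F) : tInv x * tMat x = 1 :=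
  mul_eq_one_comm.1 (tMat_mul_tInv hF x)

theorem hyp_mMat (hF : Fintype.card F = (2 ^ n) ^ 2) {a b : F}
    (hp : b + b ^ 2 ^ n = a * a ^ 2 ^ n) (u v : Fin 3 → F) :
    hyp (2 ^ n) (mMat (2 ^ n) a b *ᵥ u) (mMat (2 ^ n) a b *ᵥ v) = hyp (2 ^ n) u v := by
  have h2 := two_eq_zero hF
  simp [hyp, mMat, Matrix.mulVec, dotProduct, Fin.sum_univ_three, add_pow_q hF, mul_pow,
    pow_q_q hF]
  linear_combination (u 2 * v 2 ^ 2 ^ n) * hp +
    (u 1 * v 2 ^ 2 ^ n * a ^ 2 ^ n + u 2 * v 1 ^ 2 ^ n * a + u 2 * v 2 ^ 2 ^ n * (a * a ^ 2 ^ n)) * h2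

theorem herm_tMat (hF : Fintype.card F = (2 ^ n) ^ 2) {x : F} (hx : x + x ^ 2 ^ n = 1)
    (u v : Fin 3 → F) :
    Cfsg.hermForm 3 F (2 ^ n) (tMat x *ᵥ u) (tMat x *ᵥ v) = hyp (2 ^ n) u v := by
  have h2 := two_eq_zero hF
  simp [Cfsg.hermForm, hyp, tMat, Matrix.mulVec, dotProduct, Fin.sum_univ_three,
    add_pow_q hF, mul_pow, zero_pow_q hF]
  have hx4 : x ^ 2 ^ n = x + 1 := by linear_combination hx - x * h2
  linear_combination (u 0 * v 2 ^ 2 ^ n * 2 + u 2 * v 2 ^ 2 ^ n * (2 * x + 1)) * hx4 +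
    (u 0 * v 0 ^ 2 ^ n + u 0 * v 2 ^ 2 ^ n * (x + 1) + u 2 * v 0 ^ 2 ^ n * x +
      u 2 * v 2 ^ 2 ^ n * (x + 1) ^ 2) * h2

/-- The element of `SL(3)` of a pair. -/
def sl (hF : Fintype.card F = (2 ^ n) ^ 2) (x : F) (p : Pairs F (2 ^ n)) :
    Matrix.SpecialLinearGroup (Fin 3) F :=
  ⟨tMat x * mMat (2 ^ n) p.1.1 p.1.2 * tInv x, by
    rw [det_mul_comm, ← mul_assoc, tInv_mul_tMat hF, one_mul]
    simp [mMat, det_fin_three]⟩

theorem sl_mem (hF : Fintype.card F = (2 ^ n) ^ 2) {x : F} (hx : x + x ^ 2 ^ n = 1)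
    (p : Pairs F (2 ^ n)) : sl hF x p ∈ Cfsg.SU 3 F (2 ^ n) := by
  intro u v
  show Cfsg.hermForm 3 F (2 ^ n) ((tMat x * mMat (2 ^ n) p.1.1 p.1.2 * tInv x) *ᵥ u)
    ((tMat x * mMat (2 ^ n) p.1.1 p.1.2 * tInv x) *ᵥ v) = _
  rw [← mulVec_mulVec, ← mulVec_mulVec, ← mulVec_mulVec, ← mulVec_mulVec, herm_tMat hF hx,
    hyp_mMat hF p.2, ← herm_tMat hF hx, mulVec_mulVec, mulVec_mulVec, tMat_mul_tInv hF, one_mulVec,
    one_mulVec]

theorem factorization_card_SU (hF : Fintype.card F = (2 ^ n) ^ 2) :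
    (Nat.card (Cfsg.SU 3 F (2 ^ n))).factorization 2 = 3 * n := by
  have h := card_SU hF (n := 3) (by norm_num)
  rw [card_GU hF 3, Finset.prod_range_succ, Finset.prod_range_succ, Finset.prod_range_succ,
    Finset.prod_range_zero, if_pos (by decide : Even 0), if_neg (by decide : ¬ Even 1),
    if_pos (by decide : Even 2)] at h
  simp only [Nat.reduceAdd, Nat.reduceMul, Nat.reduceSub, Nat.reduceDiv, one_mul, pow_one] at h
  have hn := pos_n hF
  have ev : Even (2 ^ n) := Nat.even_pow.2 ⟨even_two, hn.ne'⟩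
  obtain ⟨r, hr⟩ : ∃ r, 2 ^ n = r + 1 := ⟨2 ^ n - 1, by have := Nat.one_le_two_pow (n := n); omega⟩
  have ho : ∀ k, k ≠ 0 → ¬ 2 ∣ (2 ^ n) ^ k + 1 := fun k hk hd => by
    have h' : Even ((2 ^ n) ^ k) := Nat.even_pow.2 ⟨ev, hk⟩
    rw [← even_iff_two_dvd, Nat.even_add_one] at hd
    exact hd h'
  have hom : ¬ 2 ∣ (2 ^ n) ^ 2 - 1 := fun hd => by
    have h' : Even ((2 ^ n) ^ 2) := Nat.even_pow.2 ⟨ev, two_ne_zero⟩
    rw [← even_iff_two_dvd, Nat.even_sub (Nat.one_le_pow _ _ (Nat.two_pow_pos n))] at hd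
    exact absurd (hd.1 h') (by decide)
  have hX : 0 < Nat.card (Cfsg.SU 3 F (2 ^ n)) := Nat.card_pos
  have e : Nat.card (Cfsg.SU 3 F (2 ^ n)) = 2 ^ (3 * n) * (((2 ^ n) ^ 2 - 1) * ((2 ^ n) ^ 3 + 1)) := by
    refine Nat.eq_of_mul_eq_mul_left (show 0 < 2 ^ n + 1 by positivity) (h.trans ?_)
    rw [mul_comm 3 n, pow_mul 2 n 3]
    ring
  have hm : ¬ 2 ∣ ((2 ^ n) ^ 2 - 1) * ((2 ^ n) ^ 3 + 1) := fun hd =>
    (Nat.prime_two.dvd_mul.1 hd).elim hom (ho 3 three_ne_zero)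
  rw [e, Nat.factorization_mul (by positivity) (fun h0 => hm (by rw [h0]; exact dvd_zero 2)),
    Nat.Prime.factorization_pow Nat.prime_two, Finsupp.add_apply, Finsupp.single_eq_same,
    Nat.factorization_eq_zero_of_not_dvd hm, add_zero]

theorem exists_coords_SU (hF : Fintype.card F = (2 ^ n) ^ 2) (P : Sylow 2 (Cfsg.SU 3 F (2 ^ n))) :
    Nonempty (Coords F (2 ^ n) (P : Subgroup (Cfsg.SU 3 F (2 ^ n)))) := by
  classical
  haveI : Fact (Nat.Prime 2) := ⟨Nat.prime_two⟩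
  obtain ⟨x, hx⟩ := trace_surj hF (y := 1) (one_pow _)
  have hclosed : ∀ p r : Pairs F (2 ^ n), (p.1.2 + r.1.2 + p.1.1 ^ 2 ^ n * r.1.1) +
      (p.1.2 + r.1.2 + p.1.1 ^ 2 ^ n * r.1.1) ^ 2 ^ n =
        (p.1.1 + r.1.1) * (p.1.1 + r.1.1) ^ 2 ^ n := by
    intro p r
    rw [add_pow_q hF, add_pow_q hF, add_pow_q hF, mul_pow, pow_q_q hF]
    linear_combination p.2 + r.2
  let pm : Pairs F (2 ^ n) → Pairs F (2 ^ n) → Pairs F (2 ^ n) := fun p r =>
    ⟨(p.1.1 + r.1.1, p.1.2 + r.1.2 + p.1.1 ^ 2 ^ n * r.1.1), hclosed p r⟩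
  let f : Pairs F (2 ^ n) → Cfsg.SU 3 F (2 ^ n) := fun p => ⟨sl hF x p, sl_mem hF hx p⟩
  have hmul : ∀ p r, f p * f r = f (pm p r) := by
    intro p r
    apply Subtype.ext
    apply Subtype.ext
    show tMat x * mMat _ p.1.1 p.1.2 * tInv x * (tMat x * mMat _ r.1.1 r.1.2 * tInv x) =
      tMat x * mMat _ _ _ * tInv x
    rw [← mMat_mul hF]
    simp only [mul_assoc]
    rw [← mul_assoc (tInv x), tInv_mul_tMat hF, one_mul]
  have hinj : Function.Injective f := by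
    intro p r h
    have h' : tMat x * mMat (2 ^ n) p.1.1 p.1.2 * tInv x = tMat x * mMat (2 ^ n) r.1.1 r.1.2 * tInv x :=
      congrArg (fun g : Cfsg.SU 3 F (2 ^ n) => g.1.1) h
    have h'' := congrArg (fun M => tInv x * M * tMat x) h'
    simp only [← mul_assoc, tInv_mul_tMat hF, one_mul] at h''
    simp only [mul_assoc, tInv_mul_tMat hF, mul_one] at h''
    have e1 := congrArg (fun M : Matrix (Fin 3) (Fin 3) F => M 1 2) h''
    have e2 := congrArg (fun M : Matrix (Fin 3) (Fin 3) F => M 0 2) h''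
    simp [mMat] at e1 e2
    exact Subtype.ext (Prod.ext e1 e2)
  let z : Pairs F (2 ^ n) := ⟨(0, 0), by simp [zero_pow_q hF]⟩
  have hz : f z = 1 := by
    have h := hmul z z
    rw [show pm z z = z from Subtype.ext (by simp [pm, z])] at h
    exact mul_eq_right.1 h
  have : Finite (Pairs F (2 ^ n)) := inferInstanceAs (Finite {p : F × F // _})
  let M : Submonoid (Cfsg.SU 3 F (2 ^ n)) :=
    { carrier := Set.range f
      mul_mem' := by rintro _ _ ⟨p, rfl⟩ ⟨r, rfl⟩; exact ⟨_, (hmul p r).symm⟩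
      one_mem' := ⟨z, hz⟩ }
  have hinvM : ∀ g : Cfsg.SU 3 F (2 ^ n), g ∈ M → g⁻¹ ∈ M := by
    intro g hg
    have hg' : g⁻¹ = g ^ (orderOf g - 1) := by
      rw [inv_eq_iff_mul_eq_one, ← pow_succ', Nat.sub_add_cancel (orderOf_pos g), pow_orderOf_eq_one]
    rw [hg']
    exact M.pow_mem hg _
  let Q : Subgroup (Cfsg.SU 3 F (2 ^ n)) := { M with inv_mem' := fun {g} hg => hinvM g hg }
  let e : Pairs F (2 ^ n) ≃ Q := Equiv.ofBijective (fun p => ⟨f p, ⟨p, rfl⟩⟩)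
    ⟨fun p r h => hinj (congrArg Subtype.val h), fun g => by
      obtain ⟨p, hp⟩ := g.2
      exact ⟨p, Subtype.ext hp⟩⟩
  have hQcard : Nat.card Q = 2 ^ (Nat.card (Cfsg.SU 3 F (2 ^ n))).factorization 2 := by
    rw [← Nat.card_congr e, card_pairs hF, factorization_card_SU hF, mul_comm, pow_mul]
  let S : Sylow 2 (Cfsg.SU 3 F (2 ^ n)) := Sylow.ofCard _ hQcard
  have hemul : ∀ s t : Q, e.symm (s * t) = pm (e.symm s) (e.symm t) := fun s t => by
    apply e.injective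
    rw [e.apply_symm_apply]
    refine Subtype.ext ?_
    show (s : Cfsg.SU 3 F (2 ^ n)) * t = f _
    rw [← hmul]
    conv_lhs => rw [← e.apply_symm_apply s, ← e.apply_symm_apply t]
    rfl
  let c : Coords F (2 ^ n) Q :=
    { equiv := e.symm
      mul_fst := fun s t => by rw [hemul]
      mul_snd := fun s t => by rw [hemul] }
  exact ⟨c.trans (Sylow.equiv P S)⟩

theorem exists_coords_PSU (hF : Fintype.card F = (2 ^ n) ^ 2) (P : Sylow 2 (Cfsg.PSU 3 F (2 ^ n))) :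
    Nonempty (Coords F (2 ^ n) (P : Subgroup (Cfsg.PSU 3 F (2 ^ n)))) := by
  classical
  haveI : Fact (Nat.Prime 2) := ⟨Nat.prime_two⟩
  obtain ⟨Q⟩ : Nonempty (Sylow 2 (Cfsg.SU 3 F (2 ^ n))) := inferInstance
  obtain ⟨c⟩ := exists_coords_SU hF Q
  let π := QuotientGroup.mk' (Subgroup.center (Cfsg.SU 3 F (2 ^ n)))
  let R : Sylow 2 (Cfsg.PSU 3 F (2 ^ n)) := Q.mapSurjective (QuotientGroup.mk'_surjective _)
  have hco : Nat.Coprime (Nat.card (Q : Subgroup (Cfsg.SU 3 F (2 ^ n))))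
      (Nat.card (Subgroup.center (Cfsg.SU 3 F (2 ^ n)))) := by
    obtain ⟨k, hk⟩ := IsPGroup.iff_card.1 Q.2
    rw [hk, card_center_SU hF (by norm_num)]
    refine Nat.Coprime.pow_left k ?_
    rw [Nat.prime_two.coprime_iff_not_dvd]
    intro h
    have h' := (Nat.dvd_gcd_iff.1 (dvd_refl (Nat.gcd 3 (2 ^ n + 1)))).1
    exact absurd (h.trans h') (by decide)
  have hinj : Function.Injective (π.comp (Q : Subgroup (Cfsg.SU 3 F (2 ^ n))).subtype) := by
    rw [← MonoidHom.ker_eq_bot_iff, eq_bot_iff]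
    intro s hs
    have h : (s : Cfsg.SU 3 F (2 ^ n)) ∈ (Q : Subgroup (Cfsg.SU 3 F (2 ^ n))) ⊓
        Subgroup.center (Cfsg.SU 3 F (2 ^ n)) := ⟨s.2, (QuotientGroup.eq_one_iff _).1 hs⟩
    rw [Subgroup.inf_eq_bot_of_coprime hco] at h
    exact Subgroup.mem_bot.2 (Subtype.ext h)
  let e : (Q : Subgroup (Cfsg.SU 3 F (2 ^ n))) ≃* (R : Subgroup (Cfsg.PSU 3 F (2 ^ n))) :=
    (MonoidHom.ofInjective hinj).trans (MulEquiv.subgroupCongr (by
      rw [MonoidHom.range_comp, Subgroup.range_subtype]; rfl))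
  exact ⟨c.trans ((Sylow.equiv P R).trans e.symm)⟩

end Cfsg.Agent.Lib.U3Sylow
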