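import Mathlib
import Cfsg.Prelude.Def_Solvable
import Cfsg.Prelude.Def_Transfer
import Cfsg.Agent.Lib.U3Sylow.Coords
import Cfsg.Agent.Lib.PSolvable.Basic

/-!
Automorphisms of a group with the coordinates of a Sylow `2`-subgroup of `SU(3, 2^n)`: modulo the
automorphisms trivial on the central quotient they are the maps `a ↦ l * a ^ (2^i)`.
-/

set_option autoImplicit false
set_option linter.unusedSectionVars false
set_option linter.style.haveILetI false

namespace Cfsg.Agent.Lib.U3Sylow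

open Cfsg.Agent.Lib.Unitary

variable {F : Type*} [Field F] [Fintype F] {n : ℕ} {S : Type*} [Group S]
  (c : Coords F (2 ^ n) S) (hF : Fintype.card F = (2 ^ n) ^ 2)

/-- First coordinate. -/
def Coords.a (s : S) : F := (c.equiv s).1.1

/-- Second coordinate. -/
def Coords.b (s : S) : F := (c.equiv s).1.2

theorem Coords.rel (s : S) : c.b s + c.b s ^ 2 ^ n = c.a s * c.a s ^ 2 ^ n := (c.equiv s).2

theorem Coords.a_mul (s t : S) : c.a (s * t) = c.a s + c.a t := c.mul_fst s t

theorem Coords.b_mul (s t : S) : c.b (s * t) = c.b s + c.b t + c.a s ^ 2 ^ n * c.a t := c.mul_snd s t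

theorem Coords.ext {s t : S} (h1 : c.a s = c.a t) (h2 : c.b s = c.b t) : s = t :=
  c.equiv.injective (Subtype.ext (Prod.ext h1 h2))

theorem Coords.a_one : c.a 1 = 0 := by
  have h := c.a_mul 1 1
  rw [one_mul] at h
  linear_combination -h

theorem Coords.b_one : c.b 1 = 0 := by
  have h := c.b_mul 1 1
  rw [one_mul, c.a_one, mul_zero, add_zero] at h
  linear_combination -h

theorem Coords.finite (c : Coords F (2 ^ n) S) : Finite S :=
  Finite.of_equiv _ c.equiv.symm

/-- The element with given coordinates. -/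
def Coords.pt (x y : F) (h : y + y ^ 2 ^ n = x * x ^ 2 ^ n) : S := c.equiv.symm ⟨(x, y), h⟩

theorem Coords.a_pt (x y : F) (h : y + y ^ 2 ^ n = x * x ^ 2 ^ n) : c.a (c.pt x y h) = x := by
  simp [Coords.a, Coords.pt]

theorem Coords.b_pt (x y : F) (h : y + y ^ 2 ^ n = x * x ^ 2 ^ n) : c.b (c.pt x y h) = y := by
  simp [Coords.b, Coords.pt]

include hF

theorem Coords.add_self (x : F) : x + x = 0 := by
  haveI := charP_two hF
  exact CharTwo.add_self_eq_zero x

theorem Coords.exists_a (x : F) : ∃ s : S, c.a s = x := by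
  obtain ⟨p, hp⟩ := exists_pair hF x
  exact ⟨c.equiv.symm p, by simp [Coords.a, hp]⟩

theorem Coords.exists_central {y : F} (hy : y ^ 2 ^ n = y) : ∃ s : S, c.a s = 0 ∧ c.b s = y :=
  ⟨c.pt 0 y (by rw [zero_pow_q hF, mul_zero, hy, Coords.add_self hF]), c.a_pt _ _ _, c.b_pt _ _ _⟩

include c in
theorem Coords.card_eq : Nat.card S = (2 ^ n) ^ 3 := by
  rw [Nat.card_congr c.equiv, card_pairs hF]

theorem Coords.b_fixed {s : S} (hs : c.a s = 0) : c.b s ^ 2 ^ n = c.b s := by
  have h := c.rel s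
  rw [hs, zero_mul] at h
  exact (trace_zero_iff hF).1 h

theorem Coords.comm_iff (s t : S) :
    s * t = t * s ↔ c.a s ^ 2 ^ n * c.a t + c.a t ^ 2 ^ n * c.a s = 0 := by
  constructor
  · intro h
    have h' := congrArg c.b h
    rw [c.b_mul, c.b_mul] at h'
    linear_combination h' + Coords.add_self hF (c.a t ^ 2 ^ n * c.a s)
  · intro h
    refine c.ext (by rw [c.a_mul, c.a_mul, add_comm]) ?_
    rw [c.b_mul, c.b_mul]
    linear_combination h - Coords.add_self hF (c.a t ^ 2 ^ n * c.a s)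

theorem Coords.mem_center_iff {s : S} : s ∈ Subgroup.center S ↔ c.a s = 0 := by
  rw [Subgroup.mem_center_iff]
  constructor
  · intro h
    by_contra ha
    obtain ⟨x, hx⟩ := exists_not_fixed hF
    obtain ⟨t, ht⟩ := c.exists_a hF (x * c.a s)
    have h' := (c.comm_iff hF s t).1 (h t).symm
    rw [ht, fixed_div_iff hF ha, mul_div_cancel_right₀ x ha] at h'
    exact hx h'
  · intro h t
    exact ((c.comm_iff hF s t).2 (by rw [h, zero_pow_q hF, zero_mul, mul_zero, add_zero])).symm

include c in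
theorem Coords.card_center : Nat.card (Subgroup.center S) = 2 ^ n := by
  refine Eq.trans ?_ (card_trace_zero hF)
  refine Nat.card_congr (Equiv.ofBijective (fun z : Subgroup.center S =>
    (⟨c.b z, by
      rw [trace_zero_iff hF]; exact c.b_fixed hF ((c.mem_center_iff hF).1 z.2)⟩ : {x : F // _}))
    ⟨fun z w h => Subtype.ext (c.ext
      (by rw [(c.mem_center_iff hF).1 z.2, (c.mem_center_iff hF).1 w.2]) (congrArg Subtype.val h)),
      fun y => ?_⟩)
  obtain ⟨s, hs, hsy⟩ := c.exists_central hF ((trace_zero_iff hF).1 y.2)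
  exact ⟨⟨s, (c.mem_center_iff hF).2 hs⟩, Subtype.ext hsy⟩

theorem Coords.a_sq (s : S) : c.a (s * s) = 0 := by rw [c.a_mul, Coords.add_self hF]

theorem Coords.b_sq (s : S) : c.b (s * s) = c.a s * c.a s ^ 2 ^ n := by
  rw [c.b_mul, Coords.add_self hF, zero_add, mul_comm]

theorem Coords.sq_eq_one_iff {s : S} : s * s = 1 ↔ c.a s = 0 := by
  constructor
  · intro h
    have h' := c.b_sq hF s
    rw [h, c.b_one] at h'
    exact (mul_eq_zero.1 h'.symm).elim id fun h => pow_eq_zero_iff (q_ne_zero hF) |>.1 h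
  · intro h
    exact c.ext (by rw [c.a_sq hF, c.a_one]) (by rw [c.b_sq hF, h, zero_mul, c.b_one])

include c in
theorem Coords.isPGroup : IsPGroup 2 S :=
  IsPGroup.of_card (n := 3 * n) (by rw [c.card_eq hF, mul_comm, pow_mul])

/-! ### The semilinear automorphisms -/

theorem semi_closed (l : F) (i : ℕ) {x y : F} (h : y + y ^ 2 ^ n = x * x ^ 2 ^ n) :
    l * l ^ 2 ^ n * y ^ 2 ^ i + (l * l ^ 2 ^ n * y ^ 2 ^ i) ^ 2 ^ n =
      l * x ^ 2 ^ i * (l * x ^ 2 ^ i) ^ 2 ^ n := by
  haveI := charP_two hF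
  haveI : Fact (Nat.Prime 2) := ⟨Nat.prime_two⟩
  rw [mul_pow, mul_pow (a := l) (b := x ^ 2 ^ i), norm_fixed hF, pow_right_comm y, pow_right_comm x]
  have h' := congrArg (· ^ 2 ^ i) h
  simp only [add_pow_char_pow, mul_pow] at h'
  linear_combination (l * l ^ 2 ^ n) * h'

/-- The map `(a, b) ↦ (l a^(2^i), l l^q b^(2^i))`. -/
def Coords.semiFun (l : F) (i : ℕ) (s : S) : S :=
  c.pt (l * c.a s ^ 2 ^ i) (l * l ^ 2 ^ n * c.b s ^ 2 ^ i) (semi_closed hF l i (c.rel s))

/-- The same as a homomorphism. -/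
def Coords.semiHom (l : F) (i : ℕ) : S →* S := MonoidHom.mk' (c.semiFun hF l i) fun s t => by
  haveI := charP_two hF
  haveI : Fact (Nat.Prime 2) := ⟨Nat.prime_two⟩
  refine c.ext ?_ ?_
  · rw [Coords.semiFun, c.a_pt, c.a_mul, c.a_mul, Coords.semiFun, c.a_pt, Coords.semiFun, c.a_pt,
      add_pow_char_pow]
    ring
  · rw [Coords.semiFun, c.b_pt, c.b_mul, c.b_mul, Coords.semiFun, c.b_pt, c.a_pt, Coords.semiFun,
      c.b_pt, c.a_pt, add_pow_char_pow, add_pow_char_pow, mul_pow, mul_pow, pow_right_comm (c.a s)]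
    ring

theorem Coords.semiHom_bijective (l : Fˣ) (i : ℕ) : Function.Bijective (c.semiHom hF (l : F) i) := by
  haveI := c.finite
  haveI := charP_two hF
  haveI : Fact (Nat.Prime 2) := ⟨Nat.prime_two⟩
  refine Finite.injective_iff_bijective.1 fun s t h => ?_
  have hl : (l : F) ≠ 0 := l.ne_zero
  have hi : Function.Injective fun x : F => x ^ 2 ^ i :=
    fun a b e => (iterateFrobenius F 2 i).injective (by simpa [iterateFrobenius_def] using e)
  have ha := congrArg c.a h
  have hb := congrArg c.b h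
  simp only [Coords.semiHom, MonoidHom.mk'_apply, Coords.semiFun, c.a_pt, c.b_pt] at ha hb
  exact c.ext (hi (mul_left_cancel₀ hl ha))
    (hi (mul_left_cancel₀ (mul_ne_zero hl (pow_ne_zero _ hl)) hb))

/-- The semilinear automorphism. -/
noncomputable def Coords.semi (l : Fˣ) (i : ℕ) : MulAut S :=
  MulEquiv.ofBijective (c.semiHom hF (l : F) i) (c.semiHom_bijective hF l i)

theorem Coords.a_semi (l : Fˣ) (i : ℕ) (s : S) :
    c.a (c.semi hF l i s) = (l : F) * c.a s ^ 2 ^ i :=
  c.a_pt _ _ _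

theorem Coords.b_semi (l : Fˣ) (i : ℕ) (s : S) :
    c.b (c.semi hF l i s) = (l : F) * (l : F) ^ 2 ^ n * c.b s ^ 2 ^ i :=
  c.b_pt _ _ _

omit hF in
/-- The additive group of elements of trace zero, i.e. the subfield. -/
def traceZero (hF : Fintype.card F = (2 ^ n) ^ 2) : AddSubgroup F :=
  (AddMonoidHom.id F + (conj hF).toAddMonoidHom).ker

theorem mem_traceZero {x : F} : x ∈ traceZero hF ↔ x + x ^ 2 ^ n = 0 := Iff.rfl

theorem card_traceZero : Nat.card (traceZero hF) = 2 ^ n :=
  (Nat.card_congr (Equiv.subtypeEquivRight fun _ => mem_traceZero hF)).trans (card_trace_zero hF)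

theorem central_closed (ψ : F →+ traceZero hF) (s : S) :
    c.b s + (ψ (c.a s) : F) + (c.b s + (ψ (c.a s) : F)) ^ 2 ^ n = c.a s * c.a s ^ 2 ^ n := by
  have h := (mem_traceZero hF).1 (ψ (c.a s)).2
  rw [add_pow_q hF]
  linear_combination c.rel s + h

/-- The map `(a, b) ↦ (a, b + ψ a)`. -/
def Coords.cenHom (ψ : F →+ traceZero hF) : S →* S :=
  MonoidHom.mk' (fun s => c.pt (c.a s) (c.b s + (ψ (c.a s) : F)) (central_closed c hF ψ s))
    fun s t => by
      refine c.ext ?_ ?_
      · simp only [c.a_pt, c.a_mul]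
      · simp only [c.b_pt, c.b_mul, c.a_mul, map_add, AddSubgroup.coe_add, c.a_pt]
        ring

theorem Coords.cenHom_bijective (ψ : F →+ traceZero hF) : Function.Bijective (c.cenHom hF ψ) := by
  haveI := c.finite
  refine Finite.injective_iff_bijective.1 fun s t h => ?_
  have ha := congrArg c.a h
  have hb := congrArg c.b h
  simp only [Coords.cenHom, MonoidHom.mk'_apply, c.a_pt, c.b_pt] at ha hb
  rw [ha] at hb
  exact c.ext ha (add_right_cancel hb)

/-- The automorphism trivial on the centre and the central quotient. -/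
noncomputable def Coords.cen (ψ : F →+ traceZero hF) : MulAut S :=
  MulEquiv.ofBijective (c.cenHom hF ψ) (c.cenHom_bijective hF ψ)

theorem Coords.a_cen (ψ : F →+ traceZero hF) (s : S) : c.a (c.cen hF ψ s) = c.a s := c.a_pt _ _ _

theorem Coords.b_cen (ψ : F →+ traceZero hF) (s : S) :
    c.b (c.cen hF ψ s) = c.b s + (ψ (c.a s) : F) := c.b_pt _ _ _

/-! ### Every automorphism -/

theorem Coords.a_apply_eq (α : MulAut S) {s t : S} (h : c.a s = c.a t) : c.a (α s) = c.a (α t) := by
  have hst : s * t ∈ Subgroup.center S := (c.mem_center_iff hF).2 (by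
    rw [c.a_mul, h, Coords.add_self hF])
  have h' : c.a (α (s * t)) = 0 := by
    refine (c.mem_center_iff hF).1 (Subgroup.mem_center_iff.2 fun u => ?_)
    rw [← α.apply_symm_apply u, ← map_mul, Subgroup.mem_center_iff.1 hst, map_mul]
  rw [map_mul, c.a_mul] at h'
  linear_combination h' - Coords.add_self hF (c.a (α t))

theorem Coords.classify (α : MulAut S) :
    ∃ l : Fˣ, ∃ i < 2 * n, ∀ s, c.a (α s) = (l : F) * c.a s ^ 2 ^ i ∧
      (c.a s = 0 → c.b (α s) = (l : F) * (l : F) ^ 2 ^ n * c.b s ^ 2 ^ i) := by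
  classical
  have hex := c.exists_a hF
  choose pick hpick using hex
  let A : F →+ F := AddMonoidHom.mk' (fun x => c.a (α (pick x))) fun x y => by
    rw [← c.a_mul, ← map_mul]
    exact c.a_apply_eq hF α (by rw [c.a_mul, hpick, hpick, hpick])
  have hA : ∀ s, c.a (α s) = A (c.a s) := fun s => c.a_apply_eq hF α (hpick _).symm
  have hA0 : ∀ x, A x = 0 → x = 0 := by
    intro x hx
    have h1 : α (pick x) * α (pick x) = 1 := (c.sq_eq_one_iff hF).2 hx
    rw [← map_mul, map_eq_one_iff α α.injective, c.sq_eq_one_iff hF, hpick] at h1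
    exact h1
  have hl0 : A 1 ≠ 0 := fun h => one_ne_zero (hA0 1 h)
  obtain ⟨c₀, hc₀⟩ := trace_surj hF (y := 1) (one_pow _)
  let P : F →+ F := AddMonoidHom.mk' (fun x => c₀ * x + (c₀ * x) ^ 2 ^ n) fun x y => by
    rw [mul_add, add_pow_q hF]; ring
  have hPfix : ∀ x, (P x) ^ 2 ^ n = P x := fun x => by
    show (c₀ * x + (c₀ * x) ^ 2 ^ n) ^ 2 ^ n = c₀ * x + (c₀ * x) ^ 2 ^ n
    rw [add_pow_q hF, pow_q_q hF, add_comm]
  have hPid : ∀ x, x ^ 2 ^ n = x → P x = x := fun x hx => by
    show c₀ * x + (c₀ * x) ^ 2 ^ n = x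
    rw [mul_pow, hx]; linear_combination x * hc₀
  have hexc : ∀ x, ∃ s, c.a s = 0 ∧ c.b s = P x := fun x => c.exists_central hF (hPfix x)
  choose zc hzca hzcb using hexc
  let B : F →+ F := AddMonoidHom.mk' (fun x => c.b (α (zc x))) fun x y => by
    have e : zc (x + y) = zc x * zc y := c.ext (by rw [c.a_mul, hzca, hzca, hzca, add_zero])
      (by rw [c.b_mul, hzca, hzca, hzcb, hzcb, hzcb, map_add, mul_zero, add_zero])
    rw [e, map_mul, c.b_mul, hA, hA (zc y), hzca, hzca, map_zero, mul_zero, add_zero]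
  have hB : ∀ s, c.a s = 0 → c.b (α s) = B (c.b s) := fun s hs => by
    show _ = c.b (α (zc (c.b s)))
    congr 2
    exact c.ext (by rw [hzca, hs]) (by rw [hzcb, hPid _ (c.b_fixed hF hs)])
  set l : F := A 1
  let A' : F →+ F := (AddMonoidHom.mulLeft l⁻¹).comp A
  let B' : F →+ F := (AddMonoidHom.mulLeft (l * l ^ 2 ^ n)⁻¹).comp B
  have hA' : ∀ x, A' x = l⁻¹ * A x := fun _ => rfl
  have hB' : ∀ x, B' x = (l * l ^ 2 ^ n)⁻¹ * B x := fun _ => rfl
  have hN : ∀ x, B' (x * x ^ 2 ^ n) = A' x * A' x ^ 2 ^ n := by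
    intro x
    rw [hB', hA', ← hpick x, ← c.b_sq hF, ← hB _ (c.a_sq hF _), map_mul, c.b_sq hF, hA, hpick,
      mul_pow, inv_pow, mul_inv]
    ring
  obtain ⟨i, hi, hAi⟩ := semilinear hF A' B' (by rw [hA', inv_mul_cancel₀ hl0]) hN
  refine ⟨Units.mk0 l hl0, i, hi, fun s => ⟨?_, fun hs => ?_⟩⟩
  · rw [hA, Units.val_mk0, ← hAi, hA', mul_inv_cancel_left₀ hl0]
  · obtain ⟨y, hy, hyb⟩ := exists_sq_fixed hF (c.b_fixed hF hs)
    have h := hN y
    rw [hy, hyb, hAi, hB', pow_right_comm, hy, ← mul_pow, hyb] at h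
    rw [hB s hs, Units.val_mk0, ← h, mul_inv_cancel_left₀ (mul_ne_zero hl0 (pow_ne_zero _ hl0))]

theorem frob_unique {i j : ℕ} (hi : i < 2 * n) (hj : j < 2 * n)
    (h : ∀ x : F, x ^ 2 ^ i = x ^ 2 ^ j) : i = j := by
  classical
  haveI := charP_two hF
  haveI : Fact (Nat.Prime 2) := ⟨Nat.prime_two⟩
  wlog hle : i ≤ j generalizing i j
  · exact (this hj hi (fun x => (h x).symm) (Nat.le_of_not_le hle)).symm
  obtain ⟨d, rfl⟩ := Nat.exists_eq_add_of_le hle
  by_contra hne
  have hd : ∀ x : F, x ^ 2 ^ d = x := fun x => (iterateFrobenius F 2 i).injective (by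
    rw [iterateFrobenius_def, iterateFrobenius_def, ← pow_mul, ← pow_add, add_comm, ← h])
  obtain ⟨g, hg⟩ := IsCyclic.exists_ofOrder_eq_natCard (α := Fˣ)
  have h1 : g ^ (2 ^ d - 1) = 1 := by
    refine mul_right_cancel (b := g) ?_
    rw [← pow_succ, Nat.sub_add_cancel Nat.one_le_two_pow, one_mul]
    exact Units.ext (by rw [Units.val_pow_eq_pow_val, hd])
  have h2 := Nat.le_of_dvd (by
    have := Nat.one_lt_two_pow (n := d) (by omega); omega) (orderOf_dvd_of_pow_eq_one h1)
  rw [hg, Nat.card_eq_fintype_card, Fintype.card_units, hF, ← pow_mul] at h2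
  have h3 : 2 ^ d < 2 ^ (n * 2) := Nat.pow_lt_pow_right one_lt_two (by omega)
  have := Nat.one_le_two_pow (n := d)
  omega

theorem Coords.param_unique {l m : Fˣ} {i j : ℕ} (hi : i < 2 * n) (hj : j < 2 * n)
    (h : ∀ x : F, (l : F) * x ^ 2 ^ i = (m : F) * x ^ 2 ^ j) : l = m ∧ i = j := by
  have h1 : (l : F) = m := by simpa using h 1
  exact ⟨Units.ext h1, frob_unique hF hi hj fun x => mul_left_cancel₀ l.ne_zero (by rw [h, h1])⟩

theorem Coords.exists_cen {β : MulAut S} (ha : ∀ s, c.a (β s) = c.a s) :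
    ∃ ψ, β = c.cen hF ψ := by
  classical
  obtain ⟨l, i, hi, hl⟩ := c.classify hF β
  have h0 : ∀ x : F, ((1 : Fˣ) : F) * x ^ 2 ^ 0 = (l : F) * x ^ 2 ^ i := fun x => by
    obtain ⟨s, rfl⟩ := c.exists_a hF x
    rw [← (hl s).1, ha, Units.val_one, one_mul, pow_zero, pow_one]
  obtain ⟨rfl, rfl⟩ := Coords.param_unique hF (by omega) hi h0
  have hbz : ∀ s, c.a s = 0 → c.b (β s) = c.b s := fun s hs => by
    rw [(hl s).2 hs]; simp
  let d : S → F := fun s => c.b (β s) + c.b s
  have hd : ∀ s t, d (s * t) = d s + d t := fun s t => by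
    simp only [d, map_mul, c.b_mul, ha]
    linear_combination Coords.add_self hF (c.a s ^ 2 ^ n * c.a t)
  have hdeq : ∀ {s t}, c.a s = c.a t → d s = d t := fun {s t} h => by
    have h' : d (s * t) = 0 := by
      simp only [d]
      rw [hbz _ (by rw [c.a_mul, h, Coords.add_self hF]), Coords.add_self hF]
    rw [hd] at h'
    linear_combination h' - Coords.add_self hF (d t)
  have hmem : ∀ s, d s ∈ traceZero hF := fun s => by
    rw [mem_traceZero]
    simp only [d, add_pow_q hF]
    have h1 := c.rel (β s)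
    have h2 := c.rel s
    rw [ha] at h1
    linear_combination h1 + h2 + Coords.add_self hF (c.a s * c.a s ^ 2 ^ n)
  have hex := c.exists_a hF
  choose pick hpick using hex
  refine ⟨AddMonoidHom.mk' (fun x => ⟨d (pick x), hmem _⟩) (fun x y => Subtype.ext ?_),
    MulEquiv.ext fun s => c.ext ?_ ?_⟩
  · show d (pick (x + y)) = d (pick x) + d (pick y)
    rw [← hd]; exact hdeq (by rw [c.a_mul, hpick, hpick, hpick])
  · rw [ha, c.a_cen]
  · rw [c.b_cen]
    show _ = c.b s + d (pick (c.a s))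
    rw [hdeq (hpick _)]
    simp only [d]
    linear_combination -(Coords.add_self hF (c.b s))

theorem Coords.card_hom : Nat.card (F →+ traceZero hF) = 2 ^ (2 * n ^ 2) := by
  classical
  haveI := charP_two hF
  haveI : Fact (Nat.Prime 2) := ⟨Nat.prime_two⟩
  letI : Module (ZMod 2) F := AddCommGroup.zmodModule (fun x => by rw [two_nsmul, Coords.add_self hF])
  letI : Module (ZMod 2) (traceZero hF) := AddCommGroup.zmodModule (fun x => Subtype.ext (by
    rw [two_nsmul]; exact Coords.add_self hF _))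
  have h1 : Module.finrank (ZMod 2) F = 2 * n := by
    have h := Module.card_eq_pow_finrank (K := ZMod 2) (V := F)
    rw [ZMod.card, hF, ← pow_mul] at h
    have := Nat.pow_right_injective (le_refl 2) h
    omega
  have h2 : Module.finrank (ZMod 2) (traceZero hF) = n := by
    letI := Fintype.ofFinite (traceZero hF)
    have h := Module.card_eq_pow_finrank (K := ZMod 2) (V := traceZero hF)
    rw [ZMod.card, ← Nat.card_eq_fintype_card, card_traceZero hF] at h
    exact (Nat.pow_right_injective (le_refl 2) h).symm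
  rw [Nat.card_congr (AddMonoidHom.toZModLinearMapEquiv 2).toEquiv,
    Module.natCard_eq_pow_finrank (K := ZMod 2), Nat.card_zmod, Module.finrank_linearMap, h1, h2]
  ring

include c in
theorem Coords.card_aut : Nat.card (MulAut S) = 2 ^ (2 * n ^ 2) * (2 * n * ((2 ^ n) ^ 2 - 1)) := by
  classical
  let Φ : (F →+ traceZero hF) × Fin (2 * n) × Fˣ → MulAut S := fun p =>
    c.semi hF p.2.2 p.2.1 * c.cen hF p.1
  have hΦ : Function.Bijective Φ := by
    constructor
    · rintro ⟨ψ, i, l⟩ ⟨χ, j, m⟩ h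
      obtain ⟨rfl, h2⟩ := Coords.param_unique hF (l := l) (m := m) i.2 j.2 fun x => by
        obtain ⟨s, rfl⟩ := c.exists_a hF x
        have h' := congrArg c.a (DFunLike.congr_fun h s)
        simp only [Φ, MulAut.mul_apply, c.a_semi, c.a_cen] at h'
        exact h'
      obtain rfl : i = j := Fin.ext h2
      have h' : c.cen hF ψ = c.cen hF χ := mul_left_cancel h
      obtain rfl : ψ = χ := DFunLike.ext _ _ fun x => Subtype.ext (by
        obtain ⟨s, rfl⟩ := c.exists_a hF x
        have h'' := congrArg c.b (DFunLike.congr_fun h' s)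
        simpa only [c.b_cen, add_right_inj] using h'')
      rfl
    · intro α
      obtain ⟨l, i, hi, hl⟩ := c.classify hF α
      obtain ⟨ψ, hψ⟩ := c.exists_cen hF (β := (c.semi hF l i)⁻¹ * α) fun s => by
        haveI := charP_two hF
        haveI : Fact (Nat.Prime 2) := ⟨Nat.prime_two⟩
        have h : c.a (c.semi hF l i (((c.semi hF l i)⁻¹ * α) s)) = c.a (α s) := by simp
        rw [c.a_semi, (hl s).1] at h
        exact (iterateFrobenius F 2 i).injective (by
          simpa [iterateFrobenius_def] using mul_left_cancel₀ l.ne_zero h)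
      exact ⟨(ψ, ⟨i, hi⟩, l), by
        show c.semi hF l i * c.cen hF ψ = α
        rw [← hψ, mul_inv_cancel_left]⟩
  rw [← Nat.card_eq_of_bijective Φ hΦ, Nat.card_prod, Nat.card_prod, Coords.card_hom hF,
    Nat.card_fin, Nat.card_eq_fintype_card (α := Fˣ), Fintype.card_units, hF]

/-- The automorphisms trivial on the central quotient. -/
def Coords.autCentral : Subgroup (MulAut S) where
  carrier := {α | ∀ s, c.a (α s) = c.a s}
  one_mem' := fun _ => rfl
  mul_mem' := fun {α β} hα hβ s => by rw [MulAut.mul_apply, hα, hβ]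
  inv_mem' := fun {α} hα s => by
    conv_rhs => rw [← α.apply_symm_apply s, hα]
    rfl

theorem Coords.card_autCentral : Nat.card (c.autCentral) = 2 ^ (2 * n ^ 2) := by
  rw [← Coords.card_hom hF]
  refine (Nat.card_eq_of_bijective
    (fun ψ => (⟨c.cen hF ψ, c.a_cen hF ψ⟩ : c.autCentral)) ⟨fun ψ χ h => ?_, fun α => ?_⟩).symm
  · refine DFunLike.ext _ _ fun x => Subtype.ext ?_
    obtain ⟨s, rfl⟩ := c.exists_a hF x
    have h' := congrArg c.b (DFunLike.congr_fun (congrArg Subtype.val h) s)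
    simpa only [c.b_cen, add_right_inj] using h'
  · obtain ⟨ψ, hψ⟩ := c.exists_cen hF α.2
    exact ⟨ψ, Subtype.ext hψ.symm⟩

include c in
theorem Coords.pCore_eq : Cfsg.pCore 2 (MulAut S) = c.autCentral := by
  classical
  haveI := c.finite
  haveI : Fact (Nat.Prime 2) := ⟨Nat.prime_two⟩
  haveI := charP_two hF
  refine le_antisymm (fun α hα => ?_) (le_sSup ⟨⟨fun α hα γ s => ?_⟩,
    IsPGroup.of_card (c.card_autCentral hF)⟩)
  · have hmu : ∀ {γ : MulAut S} {l : Fˣ}, γ ∈ Cfsg.pCore 2 (MulAut S) →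
        (∀ s, c.a (γ s) = (l : F) * c.a s) → l = 1 := by
      intro γ l hγ hg
      have hpw : ∀ (k : ℕ) (s : S), c.a ((γ ^ k) s) = ((l ^ k : Fˣ) : F) * c.a s := by
        intro k
        induction k with
        | zero => intro s; simp
        | succ k ih =>
          intro s
          rw [pow_succ', MulAut.mul_apply, hg, ih, pow_succ']
          simp [mul_assoc]
      obtain ⟨k, hk⟩ := Lib.PSolvable.isPGroup_pCore (p := 2) (G := MulAut S) ⟨γ, hγ⟩
      obtain ⟨s, hs⟩ := c.exists_a hF 1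
      have h := hpw (2 ^ k) s
      rw [show γ ^ 2 ^ k = 1 from congrArg Subtype.val hk, MulAut.one_apply, hs, mul_one] at h
      have h1 : orderOf l ∣ 2 ^ k := orderOf_dvd_of_pow_eq_one (Units.ext h.symm)
      have h2 : orderOf l ∣ 2 ^ (2 * n) - 1 := by
        refine orderOf_dvd_of_pow_eq_one ?_
        have h3 := pow_card_eq_one' (x := l)
        rwa [Nat.card_eq_fintype_card, Fintype.card_units, hF, ← pow_mul, mul_comm n 2] at h3
      refine orderOf_eq_one_iff.1 (Nat.eq_one_of_dvd_coprimes (Nat.Coprime.pow_left k ?_) h1 h2)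
      rw [Nat.prime_two.coprime_iff_not_dvd, ← even_iff_two_dvd,
        Nat.even_sub Nat.one_le_two_pow]
      intro h4
      exact absurd (h4.1 (Nat.even_pow.2 ⟨even_two, by have := pos_n hF; omega⟩)) (by decide)
    obtain ⟨l, i, hi, hl⟩ := c.classify hF α
    have hfix : ∀ x : F, x ^ 2 ^ i = x := by
      intro x
      by_cases hx : x = 0
      · rw [hx, zero_pow (pow_ne_zero _ two_ne_zero)]
      let u := Units.mk0 x hx
      have hγ : c.semi hF u 0 * α * (c.semi hF u 0)⁻¹ * α⁻¹ ∈ Cfsg.pCore 2 (MulAut S) :=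
        mul_mem ((inferInstance : (Cfsg.pCore 2 (MulAut S)).Normal).conj_mem α hα _) (inv_mem hα)
      have hv := hmu (l := u * (u ^ 2 ^ i)⁻¹) hγ fun s => by
        obtain ⟨t, rfl⟩ : ∃ t, α ((c.semi hF u 0) t) = s :=
          ⟨(c.semi hF u 0)⁻¹ (α⁻¹ s), by simp⟩
        simp only [MulAut.mul_apply, MulAut.inv_apply, MulEquiv.symm_apply_apply, c.a_semi, (hl _).1,
          pow_zero, pow_one, Units.val_mul, Units.val_inv_eq_inv_val, Units.val_pow_eq_pow_val,
          mul_pow]
        rw [show (u : F) = x from rfl]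
        field_simp
      rw [mul_inv_eq_one] at hv
      exact (congrArg Units.val hv).symm.trans (by simp [u])
    obtain rfl : i = 0 := frob_unique hF hi (by omega) fun x => by rw [hfix, pow_zero, pow_one]
    have hl1 := hmu hα fun s => by simpa using (hl s).1
    intro s
    simpa [hl1] using (hl s).1
  · -- normality
    show c.a ((γ * α * γ⁻¹) s) = c.a s
    rw [MulAut.mul_apply, MulAut.mul_apply, c.a_apply_eq hF γ (hα (γ⁻¹ s))]
    simp

theorem Coords.autCentral_elementary :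
    Cfsg.IsElementaryAbelian 2 (c.autCentral) := by
  refine ⟨⟨⟨fun α β => Subtype.ext ?_⟩⟩, fun α hα => ?_⟩
  · obtain ⟨ψ, hψ⟩ := c.exists_cen hF α.2
    obtain ⟨χ, hχ⟩ := c.exists_cen hF β.2
    show (α : MulAut S) * β = β * α
    rw [hψ, hχ]
    refine MulEquiv.ext fun s => c.ext ?_ ?_
    · simp [MulAut.mul_apply, c.a_cen]
    · simp [MulAut.mul_apply, c.a_cen, c.b_cen]; ring
  · obtain ⟨ψ, rfl⟩ := c.exists_cen hF hα
    refine MulEquiv.ext fun s => c.ext ?_ ?_
    · simp [pow_two, MulAut.mul_apply, c.a_cen]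
    · simp only [pow_two, MulAut.mul_apply, c.a_cen, c.b_cen, MulAut.one_apply]
      linear_combination Coords.add_self hF (ψ (c.a s) : F)

include c in
theorem Coords.isSuzuki_data (hn : 2 ≤ n) :
    (∃ x y : S, x * y ≠ y * x) ∧
    (∃ x y : S, x ≠ y ∧ x ≠ 1 ∧ x * x = 1 ∧ y ≠ 1 ∧ y * y = 1) ∧
    ∃ K : Subgroup (MulAut S), IsCyclic K ∧
      ∀ x y : S, x ≠ 1 → x * x = 1 → y ≠ 1 → y * y = 1 → ∃! k : K, (k : MulAut S) x = y := by
  classical
  haveI := c.finite
  refine ⟨?_, ?_, ?_⟩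
  · obtain ⟨x, hx⟩ := exists_not_fixed hF
    obtain ⟨s, hs⟩ := c.exists_a hF 1
    obtain ⟨t, ht⟩ := c.exists_a hF x
    refine ⟨s, t, fun h => hx ?_⟩
    have h' := (c.comm_iff hF s t).1 h
    rw [hs, ht, one_pow, one_mul, mul_one, trace_zero_iff hF] at h'
    exact h'
  · have h1 := c.card_center hF
    have h4 : 2 < Nat.card (Subgroup.center S) := by
      have := Nat.pow_le_pow_right two_pos hn
      omega
    letI := Fintype.ofFinite (Subgroup.center S)
    rw [Nat.card_eq_fintype_card, Fintype.two_lt_card_iff] at h4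
    obtain ⟨x, y, z, hxy, hxz, hyz⟩ := h4
    have key : ∀ w : Subgroup.center S, (w : S) * w = 1 := fun w =>
      (c.sq_eq_one_iff hF).2 ((c.mem_center_iff hF).1 w.2)
    by_cases hx : x = 1
    · exact ⟨y, z, fun h => hyz (Subtype.ext h), fun h => hxy (hx ▸ (Subtype.ext h).symm), key y,
        fun h => hxz (hx ▸ (Subtype.ext h).symm), key z⟩
    by_cases hy : y = 1
    · exact ⟨x, z, fun h => hxz (Subtype.ext h), fun h => hx (Subtype.ext h), key x,
        fun h => hyz (hy ▸ (Subtype.ext h).symm), key z⟩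
    exact ⟨x, y, fun h => hxy (Subtype.ext h), fun h => hx (Subtype.ext h), key x,
      fun h => hy (Subtype.ext h), key y⟩
  · let M : Subgroup Fˣ := (powMonoidHom (2 ^ n - 1)).ker
    have hM : ∀ u : Fˣ, u ∈ M ↔ (u : F) ^ 2 ^ n = u := fun u => by
      show u ^ (2 ^ n - 1) = 1 ↔ _
      rw [← Units.val_pow_eq_pow_val, Units.val_inj]
      conv_rhs => lhs; rw [← Nat.sub_add_cancel (Nat.one_le_two_pow (n := n)), pow_succ]
      rw [mul_eq_right]
    let Ψ : Fˣ →* MulAut S :=
      MonoidHom.mk' (fun u => c.semi hF u 0) fun u v => MulEquiv.ext fun s => c.ext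
        (by simp [MulAut.mul_apply, c.a_semi, mul_assoc])
        (by simp [MulAut.mul_apply, c.b_semi, mul_pow]; ring)
    have hΨb : ∀ u : Fˣ, u ∈ M → ∀ s, c.b (Ψ u s) = (u : F) * u * c.b s := fun u hu s => by
      show c.b (c.semi hF u 0 s) = _
      rw [c.b_semi, (hM u).1 hu, pow_zero, pow_one]
    haveI : IsCyclic M := inferInstance
    refine ⟨M.map Ψ, isCyclic_of_surjective (Ψ.subgroupMap M) (Ψ.subgroupMap_surjective M),
      fun x y hx hxx hy hyy => ?_⟩
    have hxa := (c.sq_eq_one_iff hF).1 hxx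
    have hya := (c.sq_eq_one_iff hF).1 hyy
    have hb0 : ∀ {w : S}, c.a w = 0 → w ≠ 1 → c.b w ≠ 0 := fun hw hw1 h =>
      hw1 (c.ext (by rw [hw, c.a_one]) (by rw [h, c.b_one]))
    have hr0 : c.b y / c.b x ≠ 0 := div_ne_zero (hb0 hya hy) (hb0 hxa hx)
    obtain ⟨v, hv, hvv⟩ := exists_sq_fixed hF (x := c.b y / c.b x)
      (by rw [div_pow, c.b_fixed hF hxa, c.b_fixed hF hya])
    have hv0 : v ≠ 0 := fun h => hr0 (by rw [← hvv, h, mul_zero])
    have hu : Units.mk0 v hv0 ∈ M := (hM _).2 hv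
    refine ⟨⟨Ψ (Units.mk0 v hv0), _, hu, rfl⟩, ?_, ?_⟩
    · refine c.ext ?_ ?_
      · show c.a (c.semi hF _ 0 x) = _
        rw [c.a_semi, hxa, hya, pow_zero, pow_one, mul_zero]
      · rw [hΨb _ hu, Units.val_mk0, hvv, div_mul_cancel₀ _ (hb0 hxa hx)]
    · rintro ⟨_, u', hu', rfl⟩ hk
      have hb' := congrArg c.b hk
      rw [hΨb _ hu', ← mul_div_cancel_right₀ (c.b y) (hb0 hxa hx)] at hb'
      have h' : (u' : F) * u' = v * v := by
        rw [hvv]
        field_simp [hb0 hxa hx] at hb' ⊢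
        linear_combination hb'
      haveI := charP_two hF
      have : (u' : F) = v := CharTwo.sq_injective (by simpa [sq] using h')
      exact Subtype.ext (congrArg Ψ (Units.ext this))

end Cfsg.Agent.Lib.U3Sylow
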